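import Cfsg.Agent.H527.RC.Stmts
import Cfsg.Agent.Lib.Cores
import Cfsg.Agent.Lib.GenFitting
import Cfsg.Agent.SignalizersComponents.FStarNormal
import Cfsg.Agent.S0044
import Cfsg.Agent.S0070
import Cfsg.Agent.S0583
import Cfsg.Agent.S0585
import Cfsg.Agent.S0586

/-!
# S4191, piece LEV (task 4358, helper89)

`lev_of` : `Lev` from `Lin` and `Rat`.
-/

set_option autoImplicit false
set_option linter.unusedSectionVars false

namespace Cfsg.Agent.H89.RC

open Subgroup Cfsg Cfsg.Agent.H527.RC Cfsg.Agent.Lib.Cores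
open scoped Pointwise commutatorElement

universe u

/-! ### Fitting height and quotients -/

theorem fh_of_surj : ∀ (t : ℕ) {G G' : Type u} [Group G] [Group G'] (f : G →* G'), Function.Surjective f →
    FH t G → FH t G'
  | 0, G, G', _, _, f, hf, h => by
    have h' : Subsingleton G := h
    exact hf.subsingleton
  | t + 1, G, G', _, _, f, hf, h => by
    obtain ⟨N, hN, hn, hq⟩ := h
    have hN' : (N.map f).Normal := map_normal_of_surjective hf hN
    refine ⟨N.map f, hN', SignalizersComponents.FStarNormal.isNilpotent_map f N hn, ?_⟩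
    refine fh_of_surj t (QuotientGroup.map N (N.map f) f (Subgroup.le_comap_map f N)) ?_ hq
    intro x
    obtain ⟨y, rfl⟩ := QuotientGroup.mk_surjective x
    obtain ⟨z, rfl⟩ := hf y
    exact ⟨(z : G ⧸ N), rfl⟩

/-- `FH (t + 1) X`, `f : X → Y` surjective and trivial on the nilpotent normal subgroups: `FH t Y` -/
theorem fh_pred {t : ℕ} {X Y : Type u} [Group X] [Group Y] (f : X →* Y) (hf : Function.Surjective f)
    (h : FH (t + 1) X) (hN : ∀ N : Subgroup X, N.Normal → Group.IsNilpotent N → N ≤ f.ker) : FH t Y := by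
  obtain ⟨N, hNn, hn, hq⟩ := h
  have := hNn
  refine fh_of_surj t (QuotientGroup.lift N f (hN N hNn hn)) ?_ hq
  intro y
  obtain ⟨x, rfl⟩ := hf y
  exact ⟨(x : X ⧸ N), rfl⟩

/-! ### The situation -/

/-- `K` has a solvable normal `p`-complement `R`, `O_p(K) = 1`, `e` bounds the exponents of the `p`-parts of the classes
of the elements of `R` -/
structure Cf (p e : ℕ) (K : Type u) [Group K] (R : Subgroup K) : Prop where
  lp : LP p R
  sol : Group.IsSolvable R
  core : pCore p K = ⊥
  bd : ∀ x ∈ R, (Subgroup.centralizer ({x} : Set K)).index.factorization p ≤ e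

section

variable {p e : ℕ} [hp : Fact p.Prime] {K : Type u} [Group K] [Finite K] {R : Subgroup K}

/-- `p'`-elements lie in the normal `p`-complement -/
theorem LP_mem (h : LP p R) {x : K} (hx : ¬ p ∣ orderOf x) : x ∈ R := by
  obtain ⟨k, hk⟩ := h.isP x
  have h1 : (orderOf x).Coprime (p ^ k) := (Nat.Coprime.pow_left k ((Nat.Prime.coprime_iff_not_dvd hp.out).2 hx)).symm
  obtain ⟨m, hm⟩ := exists_pow_eq_self_of_coprime (n := p ^ k) h1.symm
  rw [← hm]
  exact pow_mem hk m

theorem LP_map {K' : Type u} [Group K'] [Finite K'] (f : K →* K') (hf : Function.Surjective f) (h : LP p R) :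
    LP p (R.map f) where
  normal := map_normal_of_surjective hf h.normal
  cop := fun hd => h.cop (hd.trans (Subgroup.card_map_dvd R f))
  isP := fun y => by
    obtain ⟨x, rfl⟩ := hf y
    obtain ⟨k, hk⟩ := h.isP x
    exact ⟨k, by rw [← map_pow]; exact mem_map_of_mem f hk⟩

omit hp in
theorem fac_le_of_dvd {a b : ℕ} (hb : b ≠ 0) (h : a ∣ b) : a.factorization p ≤ b.factorization p := by
  have ha : a ≠ 0 := fun h0 => hb (by rw [h0] at h; exact Nat.eq_zero_of_zero_dvd h)
  exact (Nat.factorization_le_iff_dvd ha hb).2 h p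

theorem Cf.map (h : Cf p e K R) {K' : Type u} [Group K'] [Finite K'] (f : K →* K') (hf : Function.Surjective f)
    (hc : pCore p K' = ⊥) : Cf p e K' (R.map f) where
  lp := LP_map f hf h.lp
  sol := by
    have := h.sol
    exact Group.isSolvable_of_surjective (f.subgroupMap_surjective R)
  core := hc
  bd := by
    rintro _ ⟨x, hx, rfl⟩
    refine le_trans (fac_le_of_dvd (Subgroup.index_ne_zero_of_finite) ?_) (h.bd x hx)
    refine dvd_trans ?_ (Subgroup.index_map_dvd (centralizer ({x} : Set K)) hf)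
    apply Subgroup.index_dvd_of_le
    rintro _ ⟨y, hy, rfl⟩
    have hy' : y * x = x * y := mem_centralizer_singleton_iff.1 hy
    rw [mem_centralizer_singleton_iff, ← map_mul, hy', map_mul]

theorem core_of_faithful (h : LP p R) (hf : ∀ g : K, PEl p g → (∀ x ∈ R, g * x = x * g) → g = 1) :
    pCore p K = ⊥ := by
  rw [eq_bot_iff]
  intro g hg
  have h1 : IsPGroup p (pCore p K) := pCore_isPGroup p
  have hn : (pCore p K).Normal := inferInstance
  have hd : Disjoint (pCore p K) R := by
    apply Subgroup.disjoint_of_coprime_natCard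
    obtain ⟨n, hn⟩ := h1.exists_card_eq
    rw [hn]
    exact Nat.Coprime.pow_left n ((Nat.Prime.coprime_iff_not_dvd hp.out).2 h.cop)
  refine mem_bot.2 (hf g ?_ fun x hx => ?_)
  · obtain ⟨k, hk⟩ := h1 ⟨g, hg⟩
    exact ⟨k, congrArg Subtype.val hk⟩
  · exact Subgroup.commute_of_normal_of_disjoint _ _ hn h.normal hd g x hg hx

theorem isPGroup_quotient (h : LP p R) : haveI := h.normal; IsPGroup p (K ⧸ R) := by
  have := h.normal
  intro x
  obtain ⟨y, rfl⟩ := QuotientGroup.mk_surjective x
  obtain ⟨k, hk⟩ := h.isP y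
  exact ⟨k, by rw [← QuotientGroup.mk_pow]; exact (QuotientGroup.eq_one_iff _).2 hk⟩

theorem Cf.faithful (h : Cf p e K R) (g : K) (hg : PEl p g) (hc : ∀ x ∈ R, g * x = x * g) : g = 1 := by
  have hRn := h.lp.normal
  have hCn : (centralizer (R : Set K)).Normal := inferInstance
  have hnil : Group.IsNilpotent (centralizer (R : Set K)) := by
    have hq : Group.IsNilpotent (K ⧸ R) := (isPGroup_quotient h.lp).isNilpotent
    refine Subgroup.isNilpotent_of_ker_le_center ((QuotientGroup.mk' R).comp (centralizer (R : Set K)).subtype) ?_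
    intro x hx
    have hx' : (x : K) ∈ R := (QuotientGroup.eq_one_iff _).1 hx
    rw [mem_center_iff]
    intro y
    exact Subtype.ext (mem_centralizer_iff.1 y.2 x hx').symm
  obtain ⟨k, hk⟩ := hg
  have h1 : g ∈ pCore p K := Lib.GenFitting.mem_pCore_of_mem_nilpotent_normal hCn hnil
    (mem_centralizer_iff.2 fun x hx => (hc x hx).symm) hk
  rw [h.core] at h1
  exact mem_bot.1 h1

theorem Cf.isSolvable (h : Cf p e K R) : Group.IsSolvable K := by
  have := h.lp.normal
  have := h.sol
  have hq : Group.IsNilpotent (K ⧸ R) := (isPGroup_quotient h.lp).isNilpotent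
  exact Group.isSolvable_of_ker_le_range (R.subtype) (QuotientGroup.mk' R) (by simp)

end

/-! ### The module -/

theorem exists_module {G : Type u} [Group G] [Finite G] (A : Subgroup G) [A.Normal]
    (hA : ∀ x ∈ A, ∀ y ∈ A, x * y = y * x) :
    ∃ (V : Type u) (_ : AddCommGroup V) (_ : Finite V) (_ : DistribMulAction (G ⧸ A) V) (e : Additive A ≃+ V),
      ∀ (g : G) (x : A), ((g : G ⧸ A)) • e (Additive.ofMul x) = e (Additive.ofMul (MulAut.conjNormal g x)) := by
  let φ : G ⧸ A →* MulAut A := QuotientGroup.lift A MulAut.conjNormal fun x hx => by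
    ext y
    rw [MulAut.conjNormal_apply, MulAut.one_apply, hA x hx y y.2, mul_inv_cancel_right]
  let i1 : AddCommGroup (Additive A) :=
    { (inferInstance : AddGroup (Additive A)) with
      add_comm := fun a b => congrArg Additive.ofMul (Subtype.ext (hA _ a.toMul.2 _ b.toMul.2)) }
  let i2 : DistribMulAction (G ⧸ A) (Additive A) :=
    { smul := fun h v => Additive.ofMul (φ h v.toMul)
      one_smul := fun v => by
        show Additive.ofMul (φ 1 v.toMul) = v
        rw [map_one]
        rfl
      mul_smul := fun g h v => by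
        show Additive.ofMul (φ (g * h) v.toMul) = Additive.ofMul (φ g (φ h v.toMul))
        rw [map_mul]
        rfl
      smul_zero := fun g => by
        show Additive.ofMul (φ g 1) = Additive.ofMul 1
        rw [map_one]
      smul_add := fun g v w => by
        show Additive.ofMul (φ g (v.toMul * w.toMul)) = Additive.ofMul (φ g v.toMul * φ g w.toMul)
        rw [map_mul] }
  exact ⟨Additive A, i1, inferInstance, i2, AddEquiv.refl _, fun g x => rfl⟩

theorem fitting_comm {G : Type u} [Group G] [Finite G] (hΦ : frattini G = ⊥) :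
    ∀ x ∈ fittingSubgroup G, ∀ y ∈ fittingSubgroup G, x * y = y * x := by
  have h1 : fittingSubgroup G ≤ centralizer (fittingSubgroup G : Set G) := by
    conv_lhs => rw [S0586.result hΦ]
    apply sSup_le
    rintro M ⟨hM, hM1, -, hmin⟩
    rw [Subgroup.le_centralizer_iff]
    exact S0583.result M hM1 hmin
  intro x hx y hy
  exact (mem_centralizer_iff.1 (h1 hx) y hy).symm

/-- Gaschütz: `F(G)` is a faithful completely reducible module for `G / F(G)` if `Φ(G) = 1` -/
theorem step0 {G : Type u} [Group G] [Finite G] [Group.IsSolvable G] (hΦ : frattini G = ⊥) :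
    ∃ (V : Type u) (_ : AddCommGroup V) (_ : Finite V) (_ : DistribMulAction (G ⧸ fittingSubgroup G) V)
      (e : Additive (fittingSubgroup G) ≃+ V),
      (∀ (g : G) (x : fittingSubgroup G), ((g : G ⧸ fittingSubgroup G)) • e (Additive.ofMul x) =
        e (Additive.ofMul (MulAut.conjNormal g x))) ∧
      (∀ h : G ⧸ fittingSubgroup G, (∀ v : V, h • v = v) → h = 1) ∧
      (∀ X : AddSubgroup V, (∀ h : G ⧸ fittingSubgroup G, ∀ x ∈ X, h • x ∈ X) →
        ∃ Y : AddSubgroup V, (∀ h : G ⧸ fittingSubgroup G, ∀ y ∈ Y, h • y ∈ Y) ∧ X ⊓ Y = ⊥ ∧ X ⊔ Y = ⊤) := by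
  have hcomm := fitting_comm hΦ
  obtain ⟨V, i1, i2, i3, e, he⟩ := exists_module (fittingSubgroup G) hcomm
  refine ⟨V, i1, i2, i3, e, he, ?_, ?_⟩
  · intro h hh
    obtain ⟨g, rfl⟩ := QuotientGroup.mk_surjective h
    refine (QuotientGroup.eq_one_iff g).2 (S0044.result ?_)
    rw [mem_centralizer_iff]
    intro x hx
    have h1 := hh (e (Additive.ofMul ⟨x, hx⟩))
    rw [he] at h1
    have h2 : g * x * g⁻¹ = x := congrArg Subtype.val (Additive.ofMul.injective (e.injective h1))
    rw [mul_inv_eq_iff_eq_mul] at h2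
    exact h2.symm
  · intro X hX
    -- the subgroup of `G`
    let X' : Subgroup G :=
      { carrier := {x | ∃ h : x ∈ fittingSubgroup G, e (Additive.ofMul ⟨x, h⟩) ∈ X}
        one_mem' := ⟨one_mem _, by
          have : e (Additive.ofMul (⟨1, one_mem _⟩ : fittingSubgroup G)) = 0 := map_zero e
          rw [this]
          exact zero_mem _⟩
        mul_mem' := by
          rintro a b ⟨ha, ha'⟩ ⟨hb, hb'⟩
          refine ⟨mul_mem ha hb, ?_⟩
          have : e (Additive.ofMul (⟨a * b, mul_mem ha hb⟩ : fittingSubgroup G)) =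
            e (Additive.ofMul ⟨a, ha⟩) + e (Additive.ofMul ⟨b, hb⟩) :=
            map_add e (Additive.ofMul ⟨a, ha⟩) (Additive.ofMul ⟨b, hb⟩)
          rw [this]
          exact add_mem ha' hb'
        inv_mem' := by
          rintro a ⟨ha, ha'⟩
          refine ⟨inv_mem ha, ?_⟩
          have : e (Additive.ofMul (⟨a⁻¹, inv_mem ha⟩ : fittingSubgroup G)) =
            - e (Additive.ofMul ⟨a, ha⟩) := map_neg e (Additive.ofMul ⟨a, ha⟩)
          rw [this]
          exact neg_mem ha' }
    have hX'F : X' ≤ fittingSubgroup G := fun x hx => hx.1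
    have hX'n : X'.Normal := by
      refine ⟨fun x hx g => ?_⟩
      obtain ⟨h1, h2⟩ := hx
      refine ⟨Subgroup.Normal.conj_mem inferInstance x h1 g, ?_⟩
      have h3 := hX (g : G ⧸ fittingSubgroup G) _ h2
      rw [he] at h3
      exact h3
    have hX'c : IsMulCommutative X' := ⟨⟨fun a b => Subtype.ext (hcomm a (hX'F a.2) b (hX'F b.2))⟩⟩
    obtain ⟨H, hH⟩ := S0585.result hΦ X'
    have hsplit : ∀ g : G, ∃ x ∈ X', ∃ h ∈ H, g = x * h := by
      intro g
      obtain ⟨⟨x, h⟩, h2⟩ := hH.2 g
      exact ⟨x, x.2, h, h.2, h2.symm⟩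
    let Y : AddSubgroup V :=
      { carrier := {v | ((e.symm v).toMul : G) ∈ H}
        zero_mem' := by
          show (((e.symm 0).toMul : fittingSubgroup G) : G) ∈ H
          rw [map_zero]
          exact one_mem H
        add_mem' := by
          intro a b ha hb
          show (((e.symm (a + b)).toMul : fittingSubgroup G) : G) ∈ H
          rw [map_add]
          exact mul_mem ha hb
        neg_mem' := by
          intro a ha
          show (((e.symm (-a)).toMul : fittingSubgroup G) : G) ∈ H
          rw [map_neg]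
          exact inv_mem ha }
    have hY : ∀ x (hx : x ∈ fittingSubgroup G), e (Additive.ofMul ⟨x, hx⟩) ∈ Y ↔ x ∈ H := by
      intro x hx
      show (((e.symm (e (Additive.ofMul ⟨x, hx⟩))).toMul : fittingSubgroup G) : G) ∈ H ↔ x ∈ H
      rw [AddEquiv.symm_apply_apply]
      rfl
    have hrep : ∀ v : V, ∃ (x : G) (hx : x ∈ fittingSubgroup G), v = e (Additive.ofMul ⟨x, hx⟩) := by
      intro v
      exact ⟨_, ((e.symm v).toMul).2, (e.apply_symm_apply v).symm⟩
    refine ⟨Y, ?_, ?_, ?_⟩
    · intro h y hy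
      obtain ⟨g, rfl⟩ := QuotientGroup.mk_surjective h
      obtain ⟨x, hx, rfl⟩ := hrep y
      rw [hY] at hy
      rw [he]
      refine (hY _ (Subgroup.Normal.conj_mem inferInstance x hx g)).2 ?_
      obtain ⟨a, ha, h, hh, rfl⟩ := hsplit g
      have h1 : h * x * h⁻¹ ∈ fittingSubgroup G := Subgroup.Normal.conj_mem inferInstance x hx h
      have h2 : a * h * x * (a * h)⁻¹ = h * x * h⁻¹ := by
        have h3 := hcomm a (hX'F ha) _ h1
        calc a * h * x * (a * h)⁻¹ = (a * (h * x * h⁻¹)) * a⁻¹ := by group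
          _ = h * x * h⁻¹ := by rw [h3, mul_inv_cancel_right]
      rw [h2]
      exact mul_mem (mul_mem hh hy) (inv_mem hh)
    · rw [eq_bot_iff]
      rintro v ⟨hv1, hv2⟩
      obtain ⟨x, hx, rfl⟩ := hrep v
      have h1 : x ∈ H := (hY x hx).1 hv2
      have h2 : x ∈ X' := ⟨hx, hv1⟩
      have h3 : x = 1 := by
        have := hH.disjoint
        rw [Subgroup.disjoint_def] at this
        exact this h2 h1
      subst h3
      exact (map_zero e : e (Additive.ofMul (⟨1, hx⟩ : fittingSubgroup G)) = 0)
    · rw [eq_top_iff]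
      intro v _
      obtain ⟨x, hx, rfl⟩ := hrep v
      obtain ⟨a, ha, h, hh, hxe⟩ := hsplit x
      have h1 : h ∈ fittingSubgroup G := by
        have : h = a⁻¹ * x := by rw [hxe, inv_mul_cancel_left]
        rw [this]
        exact mul_mem (inv_mem (hX'F ha)) hx
      have h2 : e (Additive.ofMul (⟨x, hx⟩ : fittingSubgroup G)) =
          e (Additive.ofMul ⟨a, hX'F ha⟩) + e (Additive.ofMul ⟨h, h1⟩) := by
        rw [← map_add]
        congr 1
        exact congrArg Additive.ofMul (Subtype.ext hxe)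
      rw [h2]
      refine AddSubgroup.add_mem_sup ?_ ((hY h h1).2 hh)
      obtain ⟨_, h3⟩ := ha
      exact h3

theorem mem_frattini_iff {G : Type*} [Group G] {x : G} : x ∈ frattini G ↔ ∀ K : Subgroup G, IsCoatom K → x ∈ K := by
  constructor
  · intro h K hK
    exact frattini_le_coatom hK h
  · intro h
    show x ∈ (⨅ K ∈ {H : Subgroup G | IsCoatom H}, K)
    rw [Subgroup.mem_iInf]
    intro K
    rw [Subgroup.mem_iInf]
    intro hK
    exact h K hK

theorem isCoatom_comap_iff {G H : Type*} [Group G] [Group H] (f : G →* H) (hf : Function.Surjective f)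
    (A : Subgroup H) : IsCoatom (A.comap f) ↔ IsCoatom A := by
  constructor
  · intro h
    refine ⟨fun e => h.1 (by rw [e, comap_top]), fun B hB => ?_⟩
    have h1 : A.comap f < B.comap f := by
      rw [Subgroup.comap_lt_comap_of_surjective hf]; exact hB
    have h2 := h.2 _ h1
    rw [← comap_top f] at h2
    exact Subgroup.comap_injective hf h2
  · intro h
    refine ⟨fun e => h.1 ?_, fun B hB => ?_⟩
    · rw [← comap_top f] at e
      exact Subgroup.comap_injective hf e
    · have hk : f.ker ≤ B := (Subgroup.ker_le_comap f A).trans hB.le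
      have h1 : B = (B.map f).comap f := by
        rw [Subgroup.comap_map_eq, sup_eq_left.2 hk]
      have h2 : A < B.map f := by
        rw [h1, Subgroup.comap_lt_comap_of_surjective hf] at hB
        exact hB
      rw [h1, h.2 _ h2, comap_top]

theorem frattini_quot {G : Type*} [Group G] : frattini (G ⧸ frattini G) = ⊥ := by
  rw [eq_bot_iff]
  intro x hx
  obtain ⟨g, rfl⟩ := QuotientGroup.mk_surjective x
  rw [mem_bot, QuotientGroup.eq_one_iff, mem_frattini_iff]
  intro K hK
  have h1 : ((K.map (QuotientGroup.mk' (frattini G))).comap (QuotientGroup.mk' (frattini G))) = K := by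
    rw [Subgroup.comap_map_eq, QuotientGroup.ker_mk', sup_eq_left.2 (frattini_le_coatom hK)]
  have h2 : IsCoatom (K.map (QuotientGroup.mk' (frattini G))) := by
    rw [← isCoatom_comap_iff (QuotientGroup.mk' (frattini G)) (QuotientGroup.mk'_surjective _), h1]
    exact hK
  rw [← h1, mem_comap]
  exact mem_frattini_iff.1 hx _ h2

theorem not_dvd_fitting {p : ℕ} [hF : Fact p.Prime] {G : Type u} [Group G] [Finite G] (hp : pCore p G = ⊥) :
    ¬ p ∣ Nat.card (fittingSubgroup G) := by
  intro hdvd
  obtain ⟨z, hz⟩ := exists_prime_orderOf_dvd_card' p hdvd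
  have hz1 : (z : G) ∈ pCore p G := by
    refine Lib.GenFitting.mem_pCore_of_mem_nilpotent_normal (Lib.Cores.fittingSubgroup_normal)
      (Lib.Cores.fittingSubgroup_isNilpotent) z.2 (k := 1) ?_
    rw [pow_one, ← hz]
    exact congrArg Subtype.val (pow_orderOf_eq_one z)
  rw [hp, mem_bot] at hz1
  have h1 : z = 1 := Subtype.ext hz1
  rw [h1, orderOf_one] at hz
  exact hF.out.one_lt.ne hz

theorem step {p e : ℕ} [hp : Fact p.Prime] {K : Type u} [Group K] [Finite K] {R : Subgroup K} (h : Cf p e K R) :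
    ∃ (H V : Type u) (_ : Group H) (_ : Finite H) (_ : AddCommGroup V) (_ : Finite V) (_ : DistribMulAction H V)
      (π : K →* H), Function.Surjective π ∧ ¬ p ∣ Nat.card V ∧ π.ker = fittingSubgroup K ∧
      (∀ h : H, (∀ v : V, h • v = v) → h = 1) ∧
      (∀ X : AddSubgroup V, (∀ h : H, ∀ x ∈ X, h • x ∈ X) →
        ∃ Y : AddSubgroup V, (∀ h : H, ∀ y ∈ Y, h • y ∈ Y) ∧ X ⊓ Y = ⊥ ∧ X ⊔ Y = ⊤) ∧
      (∀ v : V, ∃ x ∈ R, ∀ g : K, g * x = x * g → π g • v = v) := by
  have hsol := h.isSolvable
  have hsolq : Group.IsSolvable (K ⧸ frattini K) :=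
    Group.isSolvable_of_surjective (QuotientGroup.mk'_surjective (frattini K))
  obtain ⟨V, i1, i2, i3, e, he, hfaith, hcr⟩ := step0 (G := K ⧸ frattini K) frattini_quot
  have hF : fittingSubgroup (K ⧸ frattini K) = (fittingSubgroup K).map (QuotientGroup.mk' (frattini K)) := S0070.result
  have hp1 := not_dvd_fitting h.core
  refine ⟨(K ⧸ frattini K) ⧸ fittingSubgroup (K ⧸ frattini K), V, inferInstance, inferInstance, i1, i2, i3,
    (QuotientGroup.mk' (fittingSubgroup (K ⧸ frattini K))).comp (QuotientGroup.mk' (frattini K)), ?_, ?_, ?_, hfaith, hcr,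
    ?_⟩
  · exact (QuotientGroup.mk'_surjective _).comp (QuotientGroup.mk'_surjective _)
  · intro hd
    apply hp1
    have h1 : Nat.card V = Nat.card (fittingSubgroup (K ⧸ frattini K)) := Nat.card_congr (e.symm.toEquiv.trans Additive.toMul)
    rw [h1, hF] at hd
    exact hd.trans (Subgroup.card_map_dvd _ _)
  · ext g
    have h1 : g ∈ ((QuotientGroup.mk' (fittingSubgroup (K ⧸ frattini K))).comp
        (QuotientGroup.mk' (frattini K))).ker ↔ (g : K ⧸ frattini K) ∈ fittingSubgroup (K ⧸ frattini K) :=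
      QuotientGroup.eq_one_iff _
    rw [h1, hF]
    constructor
    · rintro ⟨x, hx, hxg⟩
      have h2 : x⁻¹ * g ∈ frattini K := QuotientGroup.eq.1 hxg
      have h3 : x⁻¹ * g ∈ fittingSubgroup K :=
        Lib.Cores.le_fittingSubgroup inferInstance frattini_nilpotent h2
      have h4 := mul_mem hx h3
      rwa [mul_inv_cancel_left] at h4
    · intro hg
      exact ⟨g, hg, rfl⟩
  · intro v
    have h1 : ((e.symm v).toMul : K ⧸ frattini K) ∈ fittingSubgroup (K ⧸ frattini K) := ((e.symm v).toMul).2
    obtain ⟨x, hx, hxv⟩ := hF.le h1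
    refine ⟨x, LP_mem h.lp ?_, fun g hg => ?_⟩
    · intro hd
      apply hp1
      refine hd.trans ?_
      have := orderOf_dvd_natCard (⟨x, hx⟩ : fittingSubgroup K)
      rwa [← Subgroup.orderOf_coe] at this
    · have h2 : v = e (Additive.ofMul ((e.symm v).toMul)) := (e.apply_symm_apply v).symm
      rw [h2]
      show ((QuotientGroup.mk' (frattini K) g : K ⧸ frattini K) : (K ⧸ frattini K) ⧸ fittingSubgroup (K ⧸ frattini K)) • _ = _
      rw [he]
      congr 2
      apply Subtype.ext
      rw [MulAut.conjNormal_apply, ← hxv, ← map_mul, hg, map_mul, mul_inv_cancel_right]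

/-! ### Counting -/

section counting

variable {p : ℕ} {X Y : Type u} [Group X] [Finite X] [Group Y] [Finite Y]

theorem card_eq_map_mul (Q : Subgroup X) (g : X →* Y) :
    Nat.card Q = Nat.card (Q.map g) * Nat.card (Q ⊓ g.ker : Subgroup X) := by
  have h1 : Nat.card (Q.map g) = g.ker.relIndex Q := by
    rw [← Subgroup.relIndex_ker]
  have h2 : g.ker.relIndex Q = (Q ⊓ g.ker).relIndex Q := by
    rw [inf_comm, Subgroup.inf_relIndex_right]
  have h3 := Subgroup.relIndex_mul_relIndex (⊥ : Subgroup X) (Q ⊓ g.ker) Q bot_le inf_le_left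
  rw [Subgroup.relIndex_bot_left, Subgroup.relIndex_bot_left] at h3
  rw [h1, h2, mul_comm, h3]

theorem fac_map (Q : Subgroup X) (g : X →* Y) :
    (Nat.card Q).factorization p =
      (Nat.card (Q.map g)).factorization p + (Nat.card (Q ⊓ g.ker : Subgroup X)).factorization p := by
  rw [card_eq_map_mul Q g, Nat.factorization_mul Nat.card_pos.ne' Nat.card_pos.ne', Finsupp.add_apply]

theorem fac_hom (g : X →* Y) (hg : Function.Surjective g) :
    (Nat.card X).factorization p = (Nat.card Y).factorization p + (Nat.card g.ker).factorization p := by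
  have h1 := fac_map (p := p) (⊤ : Subgroup X) g
  rw [Subgroup.map_top_of_surjective g hg, top_inf_eq, Subgroup.card_top, Subgroup.card_top] at h1
  exact h1

theorem fac_le {Q S : Subgroup X} (h : Q ≤ S) : (Nat.card Q).factorization p ≤ (Nat.card S).factorization p :=
  fac_le_of_dvd Nat.card_pos.ne' (Subgroup.card_dvd_of_le h)

theorem fac_normal (B S : Subgroup X) [B.Normal] :
    (Nat.card B).factorization p + (Nat.card S).factorization p ≤
      (Nat.card X).factorization p + (Nat.card (B ⊓ S : Subgroup X)).factorization p := by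
  have h1 := fac_map (p := p) S (QuotientGroup.mk' B)
  have h2 := fac_hom (p := p) (QuotientGroup.mk' B) (QuotientGroup.mk'_surjective B)
  rw [QuotientGroup.ker_mk'] at h1 h2
  have h3 : (Nat.card (S.map (QuotientGroup.mk' B))).factorization p ≤ (Nat.card (X ⧸ B)).factorization p :=
    fac_le_of_dvd Nat.card_pos.ne' (Subgroup.card_subgroup_dvd_card _)
  rw [inf_comm] at h1
  omega

theorem card_stab_sub {V : Type u} [MulAction X V] (B : Subgroup X) (v : V) :
    Nat.card (MulAction.stabilizer B v) = Nat.card (B ⊓ MulAction.stabilizer X v : Subgroup X) := by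
  refine Nat.card_congr
    { toFun := fun x => ⟨x.1.1, x.1.2, x.2⟩
      invFun := fun x => ⟨⟨x.1, x.2.1⟩, x.2.2⟩
      left_inv := fun _ => rfl
      right_inv := fun _ => rfl }

end counting

section main

variable {p e : ℕ} [hp : Fact p.Prime] {K : Type u} [Group K] [Finite K] {R : Subgroup K}
  {H V : Type u} [Group H] [Finite H] [AddCommGroup V] [Finite V] [DistribMulAction H V]

theorem fac_orbit (h : Cf p e K R) (π : K →* H) (hπ : Function.Surjective π)
    (hst : ∀ v : V, ∃ x ∈ R, ∀ g : K, g * x = x * g → π g • v = v) (v : V) :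
    (Nat.card H).factorization p ≤ e + (Nat.card (MulAction.stabilizer H v)).factorization p := by
  obtain ⟨x, hx, hxv⟩ := hst v
  have h1 : (MulAction.stabilizer H v).index ∣ (centralizer ({x} : Set K)).index := by
    refine dvd_trans ?_ (Subgroup.index_map_dvd (centralizer ({x} : Set K)) hπ)
    apply Subgroup.index_dvd_of_le
    rintro _ ⟨g, hg, rfl⟩
    exact hxv g (mem_centralizer_singleton_iff.1 hg)
  have h2 := fac_le_of_dvd (p := p) (Subgroup.index_ne_zero_of_finite) h1
  have h3 := h.bd x hx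
  rw [← Subgroup.card_mul_index (MulAction.stabilizer H v), Nat.factorization_mul Nat.card_pos.ne'
    Subgroup.index_ne_zero_of_finite, Finsupp.add_apply]
  omega

/-- the `p`-core of `H` -/
theorem lemB {a c : ℕ} (hRat : H527.RC.Rat.{u} p a (a + c)) (h : Cf p e K R) (π : K →* H) (hπ : Function.Surjective π)
    (hst : ∀ v : V, ∃ x ∈ R, ∀ g : K, g * x = x * g → π g • v = v) (hpV : ¬ p ∣ Nat.card V)
    (hf : ∀ h : H, (∀ v : V, h • v = v) → h = 1) :
    c * (Nat.card (pCore p H)).factorization p ≤ (a + c) * e := by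
  obtain ⟨v, hv⟩ := hRat (pCore p H) V (pCore_isPGroup p) hpV fun g hg => Subtype.ext (hf g hg)
  have h1 := fac_orbit h π hπ hst v
  have h2 := fac_normal (p := p) (pCore p H) (MulAction.stabilizer H v)
  rw [card_stab_sub] at hv
  set β := (Nat.card (pCore p H)).factorization p
  set γ := (Nat.card (pCore p H ⊓ MulAction.stabilizer H v : Subgroup H)).factorization p
  have h3 : β ≤ e + γ := by omega
  have h4 : (a + c) * β ≤ (a + c) * e + a * β :=
    (Nat.mul_le_mul_left (a + c) h3).trans (by rw [mul_add]; exact Nat.add_le_add_left hv _)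
  have h5 : (a + c) * β = a * β + c * β := by ring
  omega

end main

/-- `p`-subgroups of bounded Fitting height -/
theorem lemA {p e a c : ℕ} [hp : Fact p.Prime] (hRat : H527.RC.Rat.{u} p a (a + c)) : ∀ (t : ℕ) (K : Type u) [Group K] [Finite K]
    (R : Subgroup K), Cf p e K R → ∀ Q : Subgroup K, IsPGroup p Q →
    (∀ y ∈ Q, FH t (⁅R, Subgroup.zpowers y⁆ : Subgroup K)) → c * (Nat.card Q).factorization p ≤ t * ((a + c) * e)
  | 0, K, _, _, R, h, Q, hQ, hFH => by
    have h1 : Q = ⊥ := by
      rw [eq_bot_iff]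
      intro y hy
      obtain ⟨k, hk⟩ := hQ ⟨y, hy⟩
      refine mem_bot.2 (h.faithful y ⟨k, congrArg Subtype.val hk⟩ fun x hx => ?_)
      have h2 : Subsingleton (⁅R, Subgroup.zpowers y⁆ : Subgroup K) := hFH y hy
      have h3 : x * y * x⁻¹ * y⁻¹ = 1 :=
        congrArg Subtype.val (h2.elim (⟨_, commutator_mem_commutator hx (mem_zpowers y)⟩ :
          (⁅R, Subgroup.zpowers y⁆ : Subgroup K)) 1)
      rw [mul_inv_eq_one, mul_inv_eq_iff_eq_mul] at h3
      exact h3.symm
    rw [h1, Subgroup.card_bot, Nat.factorization_one, Finsupp.zero_apply, mul_zero]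
    exact Nat.zero_le _
  | t + 1, K, _, _, R, h, Q, hQ, hFH => by
    obtain ⟨H, V, i1, i2, i3, i4, i5, π, hπ, hpV, hker, hf, -, hst⟩ := step h
    have hB := lemB hRat h π hπ hst hpV hf
    let f : K →* H ⧸ pCore p H := (QuotientGroup.mk' (pCore p H)).comp π
    have hfs : Function.Surjective f := (QuotientGroup.mk'_surjective _).comp hπ
    have h1 : Cf p e (H ⧸ pCore p H) (R.map f) := h.map f hfs (pCore_quotient_pCore p)
    have hRn := h.lp.normal
    have h2 : ∀ y ∈ Q.map f, FH t (⁅R.map f, Subgroup.zpowers y⁆ : Subgroup (H ⧸ pCore p H)) := by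
      rintro _ ⟨y, hy, rfl⟩
      have h3 : (⁅R.map f, Subgroup.zpowers (f y)⁆ : Subgroup (H ⧸ pCore p H)) = (⁅R, Subgroup.zpowers y⁆).map f := by
        rw [Subgroup.map_commutator, MonoidHom.map_zpowers]
      rw [h3]
      refine fh_pred (f.subgroupMap ⁅R, Subgroup.zpowers y⁆) (f.subgroupMap_surjective _) (hFH y hy) ?_
      intro N hN hn x hx
      have hXR : ⁅R, Subgroup.zpowers y⁆ ≤ R := commutator_le_left R _
      have h4 : (N.map (⁅R, Subgroup.zpowers y⁆).subtype).IsSubnormal := by
        refine .step _ ⁅R, Subgroup.zpowers y⁆ (map_subtype_le N) (.step _ R hXR (.step _ ⊤ le_top .top ?_) ?_) ?_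
        · exact inferInstance
        · exact Subgroup.normal_subgroupOf_of_le_normalizer (Subgroup.normalizer_commutator_ge_left _ _)
        · rw [Subgroup.subgroupOf, Subgroup.comap_map_eq_self_of_injective (Subgroup.subtype_injective _)]
          exact hN
      have h5 := SignalizersComponents.FStarNormal.le_fitting_of_subnormal h4
        (SignalizersComponents.FStarNormal.isNilpotent_map _ N hn) (mem_map_of_mem _ hx)
      rw [← hker] at h5
      rw [MonoidHom.mem_ker]
      apply Subtype.ext
      show QuotientGroup.mk' (pCore p H) (π x) = 1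
      have h6 : π x = 1 := h5
      rw [h6, map_one]
    have h3 := lemA (a := a) (c := c) hRat t (H ⧸ pCore p H) (R.map f) h1 (Q.map f) (hQ.map f) h2
    have h4 := fac_map (p := p) Q f
    have h5 : (Nat.card (Q ⊓ f.ker : Subgroup K)).factorization p ≤ (Nat.card f.ker).factorization p :=
      fac_le inf_le_right
    have h6 : (Nat.card f.ker).factorization p = (Nat.card (pCore p H)).factorization p := by
      have e1 := fac_hom (p := p) f hfs
      have e2 := fac_hom (p := p) π hπ
      have e3 := fac_hom (p := p) (QuotientGroup.mk' (pCore p H)) (QuotientGroup.mk'_surjective _)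
      rw [QuotientGroup.ker_mk'] at e3
      have e4 : (Nat.card π.ker).factorization p = 0 := by
        rw [hker]
        exact Nat.factorization_eq_zero_of_not_dvd (not_dvd_fitting h.core)
      omega
    have h7 : (Nat.card Q).factorization p ≤
        (Nat.card (Q.map f)).factorization p + (Nat.card (pCore p H)).factorization p := by omega
    calc c * (Nat.card Q).factorization p
        ≤ c * ((Nat.card (Q.map f)).factorization p + (Nat.card (pCore p H)).factorization p) :=
          Nat.mul_le_mul_left _ h7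
      _ = c * (Nat.card (Q.map f)).factorization p + c * (Nat.card (pCore p H)).factorization p := mul_add _ _ _
      _ ≤ t * ((a + c) * e) + (a + c) * e := Nat.add_le_add h3 hB
      _ = (t + 1) * ((a + c) * e) := by ring

/-- **`Lev` from `Lin` and `Rat`.** -/
theorem lev_of {p t a₀ b₀ a' c a b : ℕ} (hp : p.Prime) (hLin : Lin.{u} p t a₀ b₀) (hRat : H527.RC.Rat.{u} p a' (a' + c))
    (hb₀ : 0 < b₀) (hc : 0 < c) (hnum : a * (b₀ * c + (a₀ + t * b₀) * (a' + c)) ≤ b * (b₀ * c)) : Lev.{u} p a b := by
  intro G _ _ R e hLP hsol hfaith hbd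
  have hpf : Fact p.Prime := ⟨hp⟩
  have hCf : Cf p e G R := ⟨hLP, hsol, core_of_faithful hLP hfaith, hbd⟩
  obtain ⟨H, V, i1, i2, i3, i4, i5, π, hπ, hpV, hker, hf, hcr, hst⟩ := step hCf
  have hB := lemB hRat hCf π hπ hst hpV hf
  have hsolG := hCf.isSolvable
  have hsolH : Group.IsSolvable H := Group.isSolvable_of_surjective hπ
  have hL : LP p (R.map π) := LP_map π hπ hLP
  have hLn := hL.normal
  have hBp : IsPGroup p (pCore p H) := pCore_isPGroup p
  have hdis : Disjoint (pCore p H) (R.map π) := by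
    apply Subgroup.disjoint_of_coprime_natCard
    obtain ⟨n, hn⟩ := hBp.exists_card_eq
    rw [hn]
    exact Nat.Coprime.pow_left n ((Nat.Prime.coprime_iff_not_dvd hp).2 hL.cop)
  obtain ⟨v, hv, hvn⟩ := hLin H V (R.map π) (pCore p H) hL hpV hf hcr inferInstance hBp fun x hx y hy =>
    Subgroup.commute_of_normal_of_disjoint _ _ inferInstance hLn hdis x y hx hy
  rw [card_stab_sub] at hvn
  have h1 := fac_orbit hCf π hπ hst v
  -- a Sylow subgroup of the stabiliser
  obtain ⟨Q⟩ : Nonempty (Sylow p (MulAction.stabilizer H v)) := inferInstance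
  set Q' : Subgroup H := (Q : Subgroup (MulAction.stabilizer H v)).map (MulAction.stabilizer H v).subtype with hQ'
  have hQ's : Q' ≤ MulAction.stabilizer H v := map_subtype_le _
  have hQ'p : IsPGroup p Q' := Q.2.map _
  have hQ'c : (Nat.card Q').factorization p = (Nat.card (MulAction.stabilizer H v)).factorization p := by
    rw [hQ', Subgroup.card_map_of_injective (Subgroup.subtype_injective _), Q.card_eq_multiplicity,
      Nat.Prime.factorization_pow hp, Finsupp.single_eq_same]
  let g : H →* H ⧸ pCore p H := QuotientGroup.mk' (pCore p H)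
  have hg : Function.Surjective g := QuotientGroup.mk'_surjective _
  have hCf1 : Cf p e (H ⧸ pCore p H) ((R.map π).map g) := by
    rw [Subgroup.map_map]
    exact hCf.map (g.comp π) (hg.comp hπ) (pCore_quotient_pCore p)
  have h2 : ∀ y ∈ Q'.map g, FH t (⁅(R.map π).map g, Subgroup.zpowers y⁆ : Subgroup (H ⧸ pCore p H)) := by
    rintro _ ⟨y, hy, rfl⟩
    have h3 : (⁅(R.map π).map g, Subgroup.zpowers (g y)⁆ : Subgroup (H ⧸ pCore p H)) =
        (⁅R.map π, Subgroup.zpowers y⁆).map g := by
      rw [Subgroup.map_commutator, MonoidHom.map_zpowers]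
    rw [h3]
    refine fh_of_surj t (g.subgroupMap ⁅R.map π, Subgroup.zpowers y⁆) (g.subgroupMap_surjective _) (hv y ?_ (hQ's hy))
    obtain ⟨k, hk⟩ := hQ'p ⟨y, hy⟩
    exact ⟨k, congrArg Subtype.val hk⟩
  have h3 := lemA hRat t _ _ hCf1 (Q'.map g) (hQ'p.map g) h2
  have h4 := fac_map (p := p) Q' g
  have h5 : (Nat.card (Q' ⊓ g.ker : Subgroup H)).factorization p ≤
      (Nat.card (pCore p H ⊓ MulAction.stabilizer H v : Subgroup H)).factorization p := by
    apply fac_le
    rw [show g.ker = pCore p H from QuotientGroup.ker_mk' _]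
    exact le_inf inf_le_right (inf_le_left.trans hQ's)
  have h6 : (Nat.card G).factorization p = (Nat.card H).factorization p := by
    have e2 := fac_hom (p := p) π hπ
    have e4 : (Nat.card π.ker).factorization p = 0 := by
      rw [hker]
      exact Nat.factorization_eq_zero_of_not_dvd (not_dvd_fitting hCf.core)
    omega
  rw [h6]
  set N := (Nat.card H).factorization p
  set β := (Nat.card (pCore p H)).factorization p
  set γ := (Nat.card (pCore p H ⊓ MulAction.stabilizer H v : Subgroup H)).factorization p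
  set q₁ := (Nat.card (Q'.map g)).factorization p
  have h7 : N ≤ e + q₁ + γ := by omega
  have h8 : c * b₀ * N ≤ (b₀ * c + (a₀ + t * b₀) * (a' + c)) * e := by
    calc c * b₀ * N ≤ c * b₀ * (e + q₁ + γ) := Nat.mul_le_mul_left _ h7
      _ = c * b₀ * e + b₀ * (c * q₁) + c * (b₀ * γ) := by ring
      _ ≤ c * b₀ * e + b₀ * (t * ((a' + c) * e)) + c * (a₀ * β) :=
        Nat.add_le_add (Nat.add_le_add_left (Nat.mul_le_mul_left _ h3) _) (Nat.mul_le_mul_left _ hvn)
      _ = c * b₀ * e + b₀ * (t * ((a' + c) * e)) + a₀ * (c * β) := by ring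
      _ ≤ c * b₀ * e + b₀ * (t * ((a' + c) * e)) + a₀ * ((a' + c) * e) :=
        Nat.add_le_add_left (Nat.mul_le_mul_left _ hB) _
      _ = (b₀ * c + (a₀ + t * b₀) * (a' + c)) * e := by ring
  have h9 : (b₀ * c) * (a * N) ≤ (b₀ * c) * (b * e) := by
    calc (b₀ * c) * (a * N) = a * (c * b₀ * N) := by ring
      _ ≤ a * ((b₀ * c + (a₀ + t * b₀) * (a' + c)) * e) := Nat.mul_le_mul_left _ h8
      _ = (a * (b₀ * c + (a₀ + t * b₀) * (a' + c))) * e := by ring
      _ ≤ (b * (b₀ * c)) * e := Nat.mul_le_mul_right _ hnum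
      _ = (b₀ * c) * (b * e) := by ring
  exact Nat.le_of_mul_le_mul_left h9 (Nat.mul_pos hb₀ hc)

theorem lev_two (hLin : Lin.{u} 2 3 7 15) (hRat : H527.RC.Rat.{u} 2 7 15) : Lev.{u} 2 2 15 :=
  lev_of (a' := 7) (c := 8) Nat.prime_two hLin hRat (by decide) (by decide) (by decide)

theorem lev_three (hLin : Lin.{u} 3 4 1 1) (hRat : H527.RC.Rat.{u} 3 1 3) : Lev.{u} 3 2 17 :=
  lev_of (a' := 1) (c := 2) Nat.prime_three hLin hRat (by decide) (by decide) (by decide)

theorem lev_five (hLin : Lin.{u} 5 1 1 4) (hRat : H527.RC.Rat.{u} 5 0 1) : Lev.{u} 5 3 7 :=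
  lev_of (a' := 0) (c := 1) Nat.prime_five hLin hRat (by decide) (by decide) (by decide)

theorem lev_seven {p : ℕ} (hp : p.Prime) (hLin : Lin.{u} p 1 2 7) (hRat : H527.RC.Rat.{u} p 1 7) : Lev.{u} p 30 77 :=
  lev_of (a' := 1) (c := 6) hp hLin hRat (by decide) (by decide) (by decide)

end Cfsg.Agent.H89.RC
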